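import Mathlib

/-!
# Permutation isomorphic coprime actions on an elementary abelian group and its dual
-/

set_option autoImplicit false

namespace Cfsg.Agent.H591.KGV.Perm

open MulAction

theorem card_fixed_split {Γ C : Type*} [Group Γ] [Finite Γ] [MulAction Γ C] [Finite C]
    (K : Subgroup Γ) [Fintype {L : Subgroup Γ // K ≤ L}] :
    Nat.card {c : C // ∀ k ∈ K, k • c = c} =
      ∑ L : {L : Subgroup Γ // K ≤ L}, Nat.card {c : C // stabilizer Γ c = L} := by
  classical
  have e : {c : C // ∀ k ∈ K, k • c = c} ≃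
      Σ L : {L : Subgroup Γ // K ≤ L}, {c : C // stabilizer Γ c = L} :=
    { toFun := fun c => ⟨⟨stabilizer Γ c.1, fun k hk => c.2 k hk⟩, ⟨c.1, rfl⟩⟩
      invFun := fun q => ⟨q.2.1, fun k hk => by
        have h1 : k ∈ stabilizer Γ q.2.1 := by
          rw [q.2.2]; exact q.1.2 hk
        exact h1⟩
      left_inv := fun c => rfl
      right_inv := by
        rintro ⟨⟨L, hL⟩, ⟨c, hc⟩⟩
        simp only at hc
        subst hc
        rfl }
  rw [Nat.card_congr e, Nat.card_sigma]

/-- Two finite `Γ`-sets with the same number of fixed points for every subgroup have the same point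
stabilizers. -/
theorem exists_stabilizer_eq {Γ A B : Type*} [Group Γ] [Finite Γ] [MulAction Γ A] [MulAction Γ B]
    [Finite A] [Finite B]
    (h : ∀ K : Subgroup Γ, Nat.card {a : A // ∀ k ∈ K, k • a = a} =
      Nat.card {b : B // ∀ k ∈ K, k • b = b}) (a : A) :
    ∃ b : B, stabilizer Γ b = stabilizer Γ a := by
  classical
  have hfin : Finite (Subgroup Γ) := inferInstance
  have key : ∀ K : Subgroup Γ, Nat.card {c : A // stabilizer Γ c = K} =
      Nat.card {c : B // stabilizer Γ c = K} := by
    intro K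
    induction K using WellFoundedGT.induction with
    | ind K ih =>
      have h1 := h K
      have : Fintype {L : Subgroup Γ // K ≤ L} := Fintype.ofFinite _
      rw [card_fixed_split K, card_fixed_split K] at h1
      rw [← Finset.add_sum_erase _ _ (Finset.mem_univ (⟨K, le_rfl⟩ : {L : Subgroup Γ // K ≤ L})),
        ← Finset.add_sum_erase _ _ (Finset.mem_univ (⟨K, le_rfl⟩ : {L : Subgroup Γ // K ≤ L}))] at h1
      have h2 : ∀ L ∈ Finset.univ.erase (⟨K, le_rfl⟩ : {L : Subgroup Γ // K ≤ L}),
          Nat.card {c : A // stabilizer Γ c = (L : Subgroup Γ)} =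
            Nat.card {c : B // stabilizer Γ c = (L : Subgroup Γ)} := by
        intro L hL
        apply ih
        exact lt_of_le_of_ne L.2 fun h3 => Finset.ne_of_mem_erase hL (Subtype.ext h3.symm)
      rw [Finset.sum_congr rfl h2] at h1
      exact Nat.add_right_cancel h1
  have h1 := key (stabilizer Γ a)
  have h2 : 0 < Nat.card {c : A // stabilizer Γ c = stabilizer Γ a} :=
    Nat.card_pos_iff.2 ⟨⟨⟨a, rfl⟩⟩, inferInstance⟩
  rw [h1] at h2
  obtain ⟨⟨b, hb⟩⟩ := (Nat.card_pos_iff.1 h2).1
  exact ⟨b, hb⟩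

/-- Coprime action on an elementary abelian group: as many fixed points on the dual. -/
theorem card_fixed_dual {A K : Type*} [CommGroup A] [Finite A] [Group K] [Finite K] {p : ℕ}
    (hexp : ∀ a : A, a ^ p = 1) (hK : (Nat.card K).Coprime p) (ρ : K →* MulAut A) :
    Nat.card {a : A // ∀ k, ρ k a = a} =
      Nat.card {l : A →* ℂˣ // ∀ k a, l (ρ k a) = l a} := by
  classical
  have := Fintype.ofFinite K
  let C : Subgroup A :=
    { carrier := {a | ∀ k, ρ k a = a}
      mul_mem' := fun {a b} ha hb k => by rw [map_mul, ha k, hb k]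
      one_mem' := fun k => map_one _
      inv_mem' := fun {a} ha k => by rw [map_inv, ha k] }
  have hmem : ∀ a, a ∈ C ↔ ∀ k, ρ k a = a := fun a => Iff.rfl
  have h1 : Nat.card {a : A // ∀ k, ρ k a = a} = Nat.card C := rfl
  have : NeZero (Monoid.exponent C) := ⟨Monoid.exponent_ne_zero_of_finite⟩
  have h2 : Nat.card (C →* ℂˣ) = Nat.card C :=
    CommGroup.card_monoidHom_of_hasEnoughRootsOfUnity C ℂ
  rw [h1, ← h2]
  -- the norm map
  let e : A →* A := ∏ k : K, (ρ k).toMonoidHom
  have he : ∀ a, e a = ∏ k : K, ρ k a := fun a => by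
    simp [e, MonoidHom.finset_prod_apply]
  have heC : ∀ a, e a ∈ C := by
    intro a
    rw [hmem]
    intro k
    rw [he, map_prod]
    refine Fintype.prod_equiv (Equiv.mulLeft k) _ _ fun x => ?_
    rw [Equiv.coe_mulLeft, map_mul]
    rfl
  have heq : ∀ c ∈ C, e c = c ^ Nat.card K := by
    intro c hc
    rw [he, Finset.prod_congr rfl (fun k _ => hc k), Finset.prod_const, Finset.card_univ,
      Nat.card_eq_fintype_card]
  -- the inverse of `|K|` modulo `p`
  obtain ⟨m, hm⟩ : ∃ m : ℕ, ∀ a : A, a ^ (Nat.card K * m) = a := by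
    rcases Nat.eq_zero_or_pos p with h0 | h0
    · subst h0
      rw [Nat.coprime_zero_right] at hK
      exact ⟨1, fun a => by rw [hK, mul_one, pow_one]⟩
    · rcases Nat.lt_or_ge 1 p with hp1 | hp1
      · obtain ⟨m, hm⟩ := Nat.exists_mul_mod_eq_one_of_coprime hK hp1
        refine ⟨m, fun a => ?_⟩
        have h3 : Nat.card K * m = p * (Nat.card K * m / p) + 1 := by
          conv_lhs => rw [← Nat.div_add_mod (Nat.card K * m) p, hm.2]
        rw [h3, pow_succ, pow_mul, hexp, one_pow, one_mul]
      · have hp : p = 1 := le_antisymm hp1 h0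
        refine ⟨1, fun a => ?_⟩
        have h3 : a = 1 := by
          have := hexp a
          rwa [hp, pow_one] at this
        rw [h3, one_pow]
  let e' : A →* C := e.codRestrict C heC
  have he' : ∀ a, ((e' a : C) : A) = e a := fun a => rfl
  refine Nat.card_congr (Equiv.ofBijective
    (fun μ : C →* ℂˣ => (⟨μ.comp e', fun k a => ?_⟩ : {l : A →* ℂˣ // ∀ k a, l (ρ k a) = l a}))
    ⟨?_, ?_⟩)
  · show μ (e' (ρ k a)) = μ (e' a)
    congr 1
    apply Subtype.ext
    rw [he', he', he, he]
    refine Fintype.prod_equiv (Equiv.mulRight k) _ _ fun x => ?_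
    rw [Equiv.coe_mulRight, map_mul]
    rfl
  · intro μ μ' h
    have h3 : μ.comp e' = μ'.comp e' := congrArg Subtype.val h
    ext c
    have h4 : e' ((c : A) ^ m) = c := by
      apply Subtype.ext
      rw [he', heq _ (C.pow_mem c.2 m), ← pow_mul, mul_comm m, hm]
    have h5 := DFunLike.congr_fun h3 ((c : A) ^ m)
    rw [MonoidHom.comp_apply, MonoidHom.comp_apply, h4] at h5
    rw [h5]
  · rintro ⟨l, hl⟩
    refine ⟨(l.comp C.subtype) ^ m, Subtype.ext ?_⟩
    ext a
    show (((l (e a)) ^ m : ℂˣ) : ℂ) = l a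
    have h3 : l (e a) = l a ^ Nat.card K := by
      rw [he, map_prod, Finset.prod_congr rfl (fun k _ => hl k a), Finset.prod_const,
        Finset.card_univ, Nat.card_eq_fintype_card]
    rw [h3, ← pow_mul, ← map_pow, hm]

end Cfsg.Agent.H591.KGV.Perm
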